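import Groth.Agent.H69.CS.Sections

/-!
# Constant abelian sheaves on a small site: constant sections, global sections (helper69)
-/

set_option autoImplicit false
universe u
open CategoryTheory Opposite Limits

namespace Groth.Agent.H69.CS

variable {C : Type u} [SmallCategory C] (J : GrothendieckTopology C)

/-- the constant sheaf on an abelian group -/
noncomputable abbrev cst (M : AddCommGrpCat.{u}) : Sheaf J AddCommGrpCat.{u} :=
  (constantSheaf J AddCommGrpCat.{u}).obj M

/-- the constant section with value `m` -/
noncomputable def eta (M : AddCommGrpCat.{u}) (V : C) : ↑M →+ Sec (cst J M) V :=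
  ((toSheafify J ((Functor.const Cᵒᵖ).obj M)).app (op V)).hom

variable {J}

lemma res_eta (M : AddCommGrpCat.{u}) {V W : C} (g : W ⟶ V) (m : ↑M) :
    res (cst J M) g (eta J M V m) = eta J M W m := by
  have := (toSheafify J ((Functor.const Cᵒᵖ).obj M)).naturality g.op
  have h2 := congrArg (fun k => k.hom m) this
  exact h2.symm

lemma app_map_eta {M N : AddCommGrpCat.{u}} (f : M ⟶ N) (V : C) (m : ↑M) :
    app ((constantSheaf J AddCommGrpCat.{u}).map f) V (eta J M V m) = eta J N V (f.hom m) := by
  have := toSheafify_naturality J ((Functor.const Cᵒᵖ).map f)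
  have h2 := congrArg (fun k => (k.app (op V)).hom m) this
  exact h2.symm

/-- constant sections are locally everything -/
lemma eta_locally_surjective (M : AddCommGrpCat.{u}) {V : C} (s : Sec (cst J M) V) :
    ∃ R : Sieve V, R ∈ J V ∧ ∀ ⦃W : C⦄ (g : W ⟶ V), R g →
      ∃ m : ↑M, eta J M W m = res (cst J M) g s := by
  refine ⟨_, Presheaf.imageSieve_mem J (toSheafify J ((Functor.const Cᵒᵖ).obj M)) s, ?_⟩
  intro W g hg
  obtain ⟨t, ht⟩ := hg
  exact ⟨t, ht⟩

/-- two constants with the same constant section are equal, unless the object is covered by the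
empty sieve -/
lemma eta_injective_or (M : AddCommGrpCat.{u}) {V : C} (m m' : ↑M)
    (h : eta J M V m = eta J M V m') : m = m' ∨ (⊥ : Sieve V) ∈ J V := by
  have hmem := Presheaf.equalizerSieve_mem J (toSheafify J ((Functor.const Cᵒᵖ).obj M))
    (X := op V) m m' h
  by_cases hm : m = m'
  · exact Or.inl hm
  · right
    convert hmem using 1
    ext W g
    constructor
    · intro hg
      exact hg.elim
    · intro hg
      exact (hm (by simpa [Presheaf.equalizerSieve] using hg)).elim

end Groth.Agent.H69.CS
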