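import Groth.Agent.H69.CS.ExactSec

/-!
# Dividing by a locally nonzero section of the constant sheaf `ℤ` (helper69)
-/

set_option autoImplicit false
universe u
open CategoryTheory Opposite Limits

namespace Groth.Agent.H69.CS

open Abelian

/-- abstract part: reduce vanishing of a `φ`-torsion class in `Ext¹(X, T.X₁)` (with `T.X₂`
injective) to a lifting problem -/
theorem ext_one_eq_zero_of_torsion {𝒜 : Type*} [Category 𝒜] [Abelian 𝒜] [HasExt 𝒜]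
    {T : ShortComplex 𝒜} (hT : T.ShortExact) [Injective T.X₂] {X : 𝒜} (φ : X ⟶ X)
    (hlift : ∀ (β : X ⟶ T.X₃) (c : X ⟶ T.X₂), c ≫ T.g = φ ≫ β → ∃ c' : X ⟶ T.X₂, c' ≫ T.g = β)
    (x : Ext X T.X₁ 1) (hx : (Ext.mk₀ φ).comp x (zero_add 1) = 0) : x = 0 := by
  obtain ⟨x₃, hx₃⟩ := Ext.covariant_sequence_exact₁ _ hT x
    (Ext.eq_zero_of_injective _) (zero_add 1)
  obtain ⟨β, rfl⟩ := (Ext.mk₀_bijective _ _).2 x₃
  have h1 : (Ext.mk₀ (φ ≫ β)).comp hT.extClass (zero_add 1) = 0 := by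
    rw [← Ext.mk₀_comp_mk₀, Ext.comp_assoc_of_second_deg_zero, hx₃, hx]
  obtain ⟨x₂, hx₂⟩ := Ext.covariant_sequence_exact₃ _ hT _ (zero_add 1) h1
  obtain ⟨c, rfl⟩ := (Ext.mk₀_bijective _ _).2 x₂
  rw [Ext.mk₀_comp_mk₀] at hx₂
  obtain ⟨c', rfl⟩ := hlift β c ((Ext.mk₀_bijective _ _).1 hx₂)
  rw [← hx₃, ← Ext.mk₀_comp_mk₀, Ext.comp_assoc_of_second_deg_zero, hT.comp_extClass,
    Ext.comp_zero]

end Groth.Agent.H69.CS
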