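import Groth.Agent.H69.CS.Divide

/-!
# Dividing by a locally nonzero section of the constant sheaf `ℤ`: the gluing argument (helper69)
-/

set_option autoImplicit false
universe u
open CategoryTheory Opposite Limits

namespace Groth.Agent.H69.CS

section Rep

variable {A : Type u} [AddCommGroup A]

/-- congruence modulo `m • A` -/
def modSetoid (A : Type u) [AddCommGroup A] (m : ℤ) : Setoid A where
  r a a' := ∃ a'' : A, a - a' = m • a''
  iseqv :=
    { refl := fun a => ⟨0, by simp⟩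
      symm := by
        rintro a a' ⟨a'', h⟩
        exact ⟨-a'', by rw [smul_neg, ← h]; abel⟩
      trans := by
        rintro a a' a₃ ⟨x, hx⟩ ⟨y, hy⟩
        exact ⟨x + y, by rw [smul_add, ← hx, ← hy]; abel⟩ }

/-- canonical representative modulo `m • A` -/
noncomputable def rep (m : ℤ) (a : A) : A :=
  (Quotient.mk (modSetoid A m) a).out

lemma rep_spec (m : ℤ) (a : A) : ∃ a'' : A, a - rep m a = m • a'' := by
  have h : (modSetoid A m).r (rep m a) a := Quotient.mk_out (s := modSetoid A m) a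
  exact (modSetoid A m).iseqv.symm h

lemma rep_eq_of_sub (m : ℤ) (a a' a'' : A) (h : a - a' = m • a'') : rep m a = rep m a' := by
  unfold rep
  congr 1
  exact Quotient.sound (s := modSetoid A m) ⟨a'', h⟩

lemma rep_rep (m : ℤ) (a : A) : rep m (rep m a) = rep m a := by
  obtain ⟨a'', h⟩ := rep_spec m a
  exact (rep_eq_of_sub m a (rep m a) a'' h).symm

end Rep

end Groth.Agent.H69.CS

namespace Groth.Agent.H69.CS

variable {C : Type u} [SmallCategory C] {J : GrothendieckTopology C}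

/-- local existence is local -/
lemma covered_trans (E : C → Prop) (V : C) (R : Sieve V) (hR : R ∈ J V)
    (h : ∀ ⦃W : C⦄ (g : W ⟶ V), R g →
      ∃ R' : Sieve W, R' ∈ J W ∧ ∀ ⦃X : C⦄ (k : X ⟶ W), R' k → E X) :
    ∃ R'' : Sieve V, R'' ∈ J V ∧ ∀ ⦃X : C⦄ (k : X ⟶ V), R'' k → E X := by
  classical
  refine ⟨Sieve.bind R (fun W g hg => Classical.choose (h g hg)),
    J.bind_covering hR (fun W g hg => (Classical.choose_spec (h g hg)).1), ?_⟩
  rintro X k ⟨W, l, g, hg, hl, rfl⟩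
  exact (Classical.choose_spec (h g hg)).2 l hl

section Glue

variable {A : AddCommGrpCat.{u}} {I Q : Sheaf J AddCommGrpCat.{u}}
  (ι : cst J A ⟶ I) (p : I ⟶ Q)
  {ι' : Type u} (U : ι' → C) (n : ι' → ℤ)
  (cc : ∀ V : C, Sec I V)

/-- arrows over which `n_i t - c` is a canonical constant -/
def divSieve (hcc : ∀ ⦃V W : C⦄ (g : W ⟶ V), res I g (cc V) = cc W) {V : C} (t : Sec I V) :
    Sieve V where
  arrows X k := ∃ i, Nonempty (X ⟶ U i) ∧ ∃ a : ↑A, rep (n i) a = a ∧
    n i • res I k t - cc X = app ι X (eta J A X a)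
  downward_closed := by
    rintro X Y k ⟨i, ⟨gi⟩, a, ha, e⟩ h
    refine ⟨i, ⟨h ≫ gi⟩, a, ha, ?_⟩
    rw [← res_res, ← hcc h, ← map_zsmul, ← map_sub, e, ← app_res, res_eta]

variable (hcc : ∀ ⦃V W : C⦄ (g : W ⟶ V), res I g (cc V) = cc W)

lemma divSieve_pullback_le {V W : C} (g : W ⟶ V) (t : Sec I V) :
    (divSieve ι U n cc hcc t).pullback g ≤ divSieve ι U n cc hcc (res I g t) := by
  rintro X k ⟨i, gi, a, ha, e⟩
  exact ⟨i, gi, a, ha, by rw [res_res]; exact e⟩

lemma le_divSieve_pullback {V W : C} (g : W ⟶ V) (t : Sec I V) :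
    divSieve ι U n cc hcc (res I g t) ≤ (divSieve ι U n cc hcc t).pullback g := by
  rintro X k ⟨i, gi, a, ha, e⟩
  exact ⟨i, gi, a, ha, by rw [← res_res]; exact e⟩

include hcc in
/-- uniqueness of divided sections -/
theorem divided_unique
    (hA : ∀ (m : ℤ) (a : ↑A), m ≠ 0 → m • a = 0 → a = 0)
    (w : ι ≫ p = 0) (hex : (ShortComplex.mk ι p w).Exact) [Mono ι]
    (hn : ∀ i, n i ≠ 0)
    (hU : ∀ (i j : ι') (X : C), Nonempty (X ⟶ U i) → Nonempty (X ⟶ U j) →
      n i = n j ∨ (⊥ : Sieve X) ∈ J X)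
    (b : ∀ V : C, Sec Q V)
    (V : C) (s t : Sec I V) (hs1 : app p V s = b V) (hs2 : divSieve ι U n cc hcc s ∈ J V)
    (ht1 : app p V t = b V) (ht2 : divSieve ι U n cc hcc t ∈ J V) : s = t := by
  refine sec_ext I _ (J.intersection_covering hs2 ht2) s t ?_
  rintro X k ⟨⟨i, gi, a, ha, e₁⟩, ⟨j, gj, a', ha', e₂⟩⟩
  rcases hU i j X gi gj with hij | hbot
  swap
  · exact sec_subsingleton_of_bot_mem _ hbot _ _
  rw [← hij] at e₂ ha'
  -- the difference lies in the kernel of `p`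
  have hδ : app p X (res I k s - res I k t) = 0 := by
    rw [map_sub, app_res, app_res, hs1, ht1, sub_self]
  obtain ⟨α, hα⟩ := exists_of_app_eq_zero ι p w hex X _ hδ
  have hmul : n i • (res I k s - res I k t) = app ι X (eta J A X (a - a')) := by
    rw [map_sub, map_sub, ← e₁, ← e₂, smul_sub]
    abel
  obtain ⟨R', hR', hconst⟩ := eta_locally_surjective A α
  rw [← sub_eq_zero]
  refine sec_ext I R' hR' _ _ ?_
  intro Y l hl
  obtain ⟨a'', ha''⟩ := hconst l hl
  rw [map_zero]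
  have h1 : res I l (res I k s - res I k t) = app ι Y (eta J A Y a'') := by
    rw [← hα, ← app_res, ha'']
  have h2 : app ι Y (eta J A Y (n i • a'')) = app ι Y (eta J A Y (a - a')) := by
    rw [map_zsmul, map_zsmul, ← h1, ← map_zsmul, hmul, ← app_res, res_eta]
  rcases eta_injective_or A _ _ (app_injective_of_mono ι Y h2) with h3 | hbot
  · have h4 : a = a' := by
      rw [← ha, ← ha']
      exact rep_eq_of_sub (n i) a a' a'' h3.symm
    rw [h4, sub_self] at h3
    rw [h1, hA (n i) a'' (hn i) h3, map_zero, map_zero]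
  · exact sec_subsingleton_of_bot_mem _ hbot _ _

include hcc in
/-- existence of divided sections -/
theorem exists_divided_sections
    (hA : ∀ (m : ℤ) (a : ↑A), m ≠ 0 → m • a = 0 → a = 0)
    (w : ι ≫ p = 0) (hex : (ShortComplex.mk ι p w).Exact) [Mono ι] [Epi p]
    (hn : ∀ i, n i ≠ 0)
    (hU : ∀ (i j : ι') (X : C), Nonempty (X ⟶ U i) → Nonempty (X ⟶ U j) →
      n i = n j ∨ (⊥ : Sieve X) ∈ J X)
    (hcov : ∀ V : C, ∃ R ∈ J V, ∀ ⦃W : C⦄ (g : W ⟶ V), R g → ∃ i, Nonempty (W ⟶ U i))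
    (b : ∀ V : C, Sec Q V) (hb : ∀ ⦃V W : C⦄ (g : W ⟶ V), res Q g (b V) = b W)
    (hpc : ∀ (i : ι') (V : C), Nonempty (V ⟶ U i) → app p V (cc V) = n i • b V) (V : C) :
    ∃ t : Sec I V, app p V t = b V ∧ divSieve ι U n cc hcc t ∈ J V := by
  refine exists_of_local I
    (fun V t => app p V t = b V ∧ divSieve ι U n cc hcc t ∈ J V) ?_ ?_ ?_ ?_ V
  · -- hres
    rintro V W g s ⟨h1, h2⟩
    refine ⟨?_, ?_⟩
    · rw [app_res, h1, hb]
    · exact J.superset_covering (divSieve_pullback_le ι U n cc hcc g s) (J.pullback_stable g h2)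
  · -- huniq
    rintro V s t ⟨hs1, hs2⟩ ⟨ht1, ht2⟩
    exact divided_unique ι p U n cc hcc hA w hex hn hU b V s t hs1 hs2 ht1 ht2
  · -- hloc
    intro V
    obtain ⟨R₁, hR₁, hR₁c⟩ := hcov V
    refine covered_trans _ V R₁ hR₁ ?_
    intro W g hg
    obtain ⟨i, gi⟩ := hR₁c g hg
    obtain ⟨R₂, hR₂, hR₂c⟩ := locally_surjective_of_epi p (b W)
    refine covered_trans _ W R₂ hR₂ ?_
    intro X h hh
    obtain ⟨s, hs⟩ := hR₂c h hh
    rw [hb] at hs
    have giX : Nonempty (X ⟶ U i) := gi.map (fun gi => h ≫ gi)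
    have hker : app p X (n i • s - cc X) = 0 := by
      rw [map_sub, map_zsmul, hs, hpc i X giX, sub_self]
    obtain ⟨α, hα⟩ := exists_of_app_eq_zero ι p w hex X _ hker
    obtain ⟨R₃, hR₃, hR₃c⟩ := eta_locally_surjective A α
    refine ⟨R₃, hR₃, ?_⟩
    intro Y l hl
    obtain ⟨a, ha⟩ := hR₃c l hl
    obtain ⟨a'', ha''⟩ := rep_spec (n i) a
    have giY : Nonempty (Y ⟶ U i) := giX.map (fun gi => l ≫ gi)
    have e0 : n i • (res I l s - app ι Y (eta J A Y a'')) - cc Y =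
        app ι Y (eta J A Y (rep (n i) a)) := by
      have e1 : rep (n i) a = a - n i • a'' := by rw [← ha'']; abel
      rw [e1, map_sub, map_sub, map_zsmul, map_zsmul, ha, app_res, hα, map_sub, map_zsmul, hcc,
        smul_sub]
      abel
    refine ⟨res I l s - app ι Y (eta J A Y a''), ?_, ?_⟩
    · rw [map_sub, app_comp_zero ι p w, sub_zero, app_res, hs, hb]
    · convert J.top_mem Y
      ext Z m
      simp only [Sieve.top_apply, iff_true]
      refine ⟨i, giY.map (fun gi => m ≫ gi), rep (n i) a, rep_rep _ _, ?_⟩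
      rw [← hcc m, ← map_zsmul, ← map_sub, e0, ← app_res, res_eta]
  · -- hlocal
    rintro V s R hR h
    refine ⟨?_, ?_⟩
    · refine sec_ext Q R hR _ _ ?_
      intro W g hg
      rw [← app_res, (h g hg).1, hb]
    · refine J.transitive hR _ ?_
      intro W g hg
      exact J.superset_covering (le_divSieve_pullback ι U n cc hcc g s) (h g hg).2

end Glue

/-- Dividing a morphism `ℤ ⟶ Q` by a locally nonzero endomorphism `φ` of the constant sheaf `ℤ`,
modulo the image of `I ⟶ Q`, where `0 → A → I → Q → 0` is exact with `A` constant on a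
torsion-free group. -/
theorem exists_divided_hom {A : AddCommGrpCat.{u}} {I Q : Sheaf J AddCommGrpCat.{u}}
    (ι : cst J A ⟶ I) (p : I ⟶ Q)
    (hA : ∀ (m : ℤ) (a : ↑A), m ≠ 0 → m • a = 0 → a = 0)
    (w : ι ≫ p = 0) (hex : (ShortComplex.mk ι p w).Exact) [Mono ι] [Epi p]
    (φ : cst J ZZ.{u} ⟶ cst J ZZ.{u})
    {ι' : Type u} (U : ι' → C) (n : ι' → ℤ) (hn : ∀ i, n i ≠ 0)
    (hφ : ∀ (i : ι') (V : C) (_ : V ⟶ U i), φ.hom.app (op V) = n i • 𝟙 _)
    (hcov : ∀ V : C, ∃ R ∈ J V, ∀ ⦃W : C⦄ (g : W ⟶ V), R g → ∃ i, Nonempty (W ⟶ U i))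
    (β : cst J ZZ.{u} ⟶ Q) (c : cst J ZZ.{u} ⟶ I) (hc : c ≫ p = φ ≫ β) :
    ∃ c' : cst J ZZ.{u} ⟶ I, c' ≫ p = β := by
  classical
  have hφ' : ∀ (i : ι') (V : C), Nonempty (V ⟶ U i) → ∀ s : Sec (cst J ZZ.{u}) V,
      app φ V s = n i • s := by
    rintro i V ⟨g⟩ s
    show (φ.hom.app (op V)).hom s = _
    rw [hφ i V g]
    rfl
  have hcc : ∀ ⦃V W : C⦄ (g : W ⟶ V), res I g (evalOne c V) = evalOne c W :=
    fun V W g => evalOne_res c g
  have hb : ∀ ⦃V W : C⦄ (g : W ⟶ V), res Q g (evalOne β V) = evalOne β W :=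
    fun V W g => evalOne_res β g
  have hpc : ∀ (i : ι') (V : C), Nonempty (V ⟶ U i) →
      app p V (evalOne c V) = n i • evalOne β V := by
    intro i V gi
    rw [← evalOne_comp, hc, evalOne_comp, evalOne, hφ' i V gi, map_zsmul]
    rfl
  have hU : ∀ (i j : ι') (X : C), Nonempty (X ⟶ U i) → Nonempty (X ⟶ U j) →
      n i = n j ∨ (⊥ : Sieve X) ∈ J X := by
    intro i j X gi gj
    have h1 : n i • one J X = n j • one J X := by
      rw [← hφ' i X gi, ← hφ' j X gj]
    have h2 : eta J ZZ.{u} X (ULift.up (n i)) = eta J ZZ.{u} X (ULift.up (n j)) := by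
      rw [eta_ZZ, eta_ZZ]
      exact h1
    rcases eta_injective_or ZZ.{u} _ _ h2 with h | h
    · exact Or.inl (congrArg ULift.down h)
    · exact Or.inr h
  have hex' := exists_divided_sections ι p U n (fun V => evalOne c V) hcc hA w hex hn hU hcov
    (fun V => evalOne β V) hb hpc
  choose t ht1 ht2 using hex'
  have hcompat : ∀ ⦃V W : C⦄ (g : W ⟶ V), res I g (t V) = t W := by
    intro V W g
    refine divided_unique ι p U n (fun V => evalOne c V) hcc hA w hex hn hU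
      (fun V => evalOne β V) W _ _ ?_ ?_ (ht1 W) (ht2 W)
    · rw [app_res, ht1, hb]
    · exact J.superset_covering (divSieve_pullback_le ι U n _ hcc g (t V))
        (J.pullback_stable g (ht2 V))
  obtain ⟨c', hc'⟩ := exists_hom_of_family (F := I) t hcompat
  refine ⟨c', evalOne_injective _ _ ?_⟩
  intro V
  rw [evalOne_comp, hc', ht1]

end Groth.Agent.H69.CS
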