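import Groth.Agent.H69.CS.Lift

/-!
# The constant sheaf functor is exact; H¹ of constant sheaves and short exact sequences (helper69)
-/

set_option autoImplicit false
universe u
open CategoryTheory Opposite Limits

namespace Groth.Agent.H69.CS

variable {C : Type u} [SmallCategory C] (J : GrothendieckTopology C)

noncomputable instance : PreservesFiniteLimits (constantSheaf J AddCommGrpCat.{u}) := by
  unfold constantSheaf
  infer_instance

noncomputable instance : PreservesFiniteColimits (constantSheaf J AddCommGrpCat.{u}) := by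
  unfold constantSheaf
  infer_instance

instance : (constantSheaf J AddCommGrpCat.{u}).Additive := by
  unfold constantSheaf
  infer_instance

/-- the image under the constant sheaf functor of a short exact sequence of groups -/
theorem shortExact_map {S : ShortComplex AddCommGrpCat.{u}} (hS : S.ShortExact) :
    (S.map (constantSheaf J AddCommGrpCat.{u})).ShortExact :=
  hS.map_of_exact _

end Groth.Agent.H69.CS

namespace Groth.Agent.H69.CS

open CategoryTheory Abelian

/-- abstract: if every map `X ⟶ T.X₃` lifts to `T.X₂` then `Ext¹(X, T.X₁) → Ext¹(X, T.X₂)` has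
trivial kernel -/
theorem ext_one_eq_zero_of_lift {𝒜 : Type*} [Category 𝒜] [Abelian 𝒜] [HasExt 𝒜]
    {T : ShortComplex 𝒜} (hT : T.ShortExact) (X : 𝒜)
    (hlift : ∀ ψ : X ⟶ T.X₃, ∃ ψ' : X ⟶ T.X₂, ψ' ≫ T.g = ψ)
    (x : Ext X T.X₁ 1) (hx : x.comp (Ext.mk₀ T.f) (add_zero 1) = 0) : x = 0 := by
  obtain ⟨x₃, hx₃⟩ := Ext.covariant_sequence_exact₁ _ hT x hx (zero_add 1)
  obtain ⟨ψ, rfl⟩ := (Ext.mk₀_bijective _ _).2 x₃
  obtain ⟨ψ', rfl⟩ := hlift ψ
  rw [← hx₃, ← Ext.mk₀_comp_mk₀, Ext.comp_assoc_of_second_deg_zero, hT.comp_extClass,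
    Ext.comp_zero]

end Groth.Agent.H69.CS
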