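import Groth.Agent.H69.CS.Exact

/-!
# Exactness properties of sheaf morphisms on sections (helper69)
-/

set_option autoImplicit false
universe u
open CategoryTheory Opposite Limits

namespace Groth.Agent.H69.CS

variable {C : Type u} [SmallCategory C] {J : GrothendieckTopology C}

variable {F G H : Sheaf J AddCommGrpCat.{u}}

/-- the sections functor over `V` -/
noncomputable abbrev secFunctor (J : GrothendieckTopology C) (V : C) :
    Sheaf J AddCommGrpCat.{u} ⥤ AddCommGrpCat.{u} :=
  sheafToPresheaf J AddCommGrpCat.{u} ⋙ (evaluation Cᵒᵖ AddCommGrpCat.{u}).obj (op V)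

lemma app_injective_of_mono (ι : F ⟶ G) [Mono ι] (V : C) : Function.Injective (app ι V) := by
  have : Mono ((secFunctor J V).map ι) := inferInstance
  exact (AddCommGrpCat.mono_iff_injective _).1 this

lemma app_comp_zero (ι : F ⟶ G) (p : G ⟶ H) (w : ι ≫ p = 0) (V : C) (a : Sec F V) :
    app p V (app ι V a) = 0 := by
  rw [← app_comp, w]
  rfl

lemma exists_of_app_eq_zero (ι : F ⟶ G) (p : G ⟶ H) (w : ι ≫ p = 0)
    (hex : (ShortComplex.mk ι p w).Exact) [hm : Mono ι] (V : C) (s : Sec G V)
    (hs : app p V s = 0) : ∃ a : Sec F V, app ι V a = s := by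
  have h1 : ((ShortComplex.mk ι p w).map (secFunctor J V)).Exact :=
    hex.map_of_mono_of_preservesKernel (secFunctor J V) hm inferInstance
  rw [ShortComplex.ab_exact_iff] at h1
  exact h1 s hs

lemma locally_surjective_of_epi (p : G ⟶ H) [Epi p] {V : C} (b : Sec H V) :
    ∃ R : Sieve V, R ∈ J V ∧ ∀ ⦃W : C⦄ (g : W ⟶ V), R g →
      ∃ s : Sec G W, app p W s = res H g b := by
  have hls : Sheaf.IsLocallySurjective p := (Sheaf.isLocallySurjective_iff_epi' (φ := p)).2 inferInstance
  refine ⟨_, Presheaf.imageSieve_mem J p.hom b, ?_⟩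
  intro W g hg
  obtain ⟨t, ht⟩ := hg
  exact ⟨t, ht⟩

end Groth.Agent.H69.CS
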