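import Groth.Agent.H69.CS.Vanish

/-!
# `Ext¹(X, ∏ Fᵢ) → ∏ Ext¹(X, Fᵢ)` is injective (helper69)
-/

set_option autoImplicit false
universe v' u'
open CategoryTheory Opposite Limits

namespace Groth.Agent.H69.CS

open Abelian

variable {𝒜 : Type u'} [Category.{v'} 𝒜] [Abelian 𝒜]

/-- the cokernel of a product of monomorphisms embeds into the product of the cokernels -/
theorem eq_zero_of_comp_cokernel_desc {I : Type v'} (F E : I → 𝒜) [HasProduct F] [HasProduct E]
    (ι : ∀ i, F i ⟶ E i) [∀ i, Mono (ι i)] {Z : 𝒜} (z : Z ⟶ cokernel (Limits.Pi.map ι))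
    (hz : ∀ i, z ≫ cokernel.desc (Limits.Pi.map ι) (Pi.π E i ≫ cokernel.π (ι i))
      (by rw [← Category.assoc, Limits.Pi.map_π, Category.assoc, cokernel.condition, comp_zero]) = 0) :
    z = 0 := by
  obtain ⟨Z', e, he, z', hz'⟩ :=
    (epi_iff_surjective_up_to_refinements (cokernel.π (Limits.Pi.map ι))).1 inferInstance z
  have hTi : ∀ i, (ShortComplex.mk (ι i) (cokernel.π (ι i)) (cokernel.condition (ι i))).Exact :=
    fun i => ShortComplex.exact_cokernel (ι i)
  have hw : ∀ i, (z' ≫ Pi.π E i) ≫ cokernel.π (ι i) = 0 := by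
    intro i
    have h1 := hz i
    have h2 : (z' ≫ cokernel.π (Limits.Pi.map ι)) ≫ cokernel.desc (Limits.Pi.map ι)
        (Pi.π E i ≫ cokernel.π (ι i))
        (by rw [← Category.assoc, Limits.Pi.map_π, Category.assoc, cokernel.condition, comp_zero]) = 0 := by
      rw [← hz', Category.assoc, h1, comp_zero]
    simpa using h2
  let w : Z' ⟶ ∏ᶜ F := Pi.lift (fun i => (hTi i).lift (z' ≫ Pi.π E i) (hw i))
  have hwj : w ≫ Limits.Pi.map ι = z' := by
    apply Pi.hom_ext
    intro i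
    simp only [w, Category.assoc, Limits.Pi.map_π, Pi.lift_π_assoc]
    exact (hTi i).lift_f _ _
  have : e ≫ z = 0 := by
    rw [hz', ← hwj, Category.assoc, cokernel.condition, comp_zero]
  exact (cancel_epi e).1 (by rw [this, comp_zero])

variable [HasExt 𝒜] [EnoughInjectives 𝒜]

/-- `Ext¹(X, ∏ Fᵢ) → ∏ Ext¹(X, Fᵢ)` has trivial kernel -/
theorem ext_one_pi_eq_zero {I : Type v'} (F : I → 𝒜) [HasProduct F]
    [HasProduct (fun i => Injective.under (F i))] (X : 𝒜)
    (x : Ext X (∏ᶜ F) 1) (hx : ∀ i, x.comp (Ext.mk₀ (Pi.π F i)) (add_zero 1) = 0) : x = 0 := by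
  let E : I → 𝒜 := fun i => Injective.under (F i)
  let ι : ∀ i, F i ⟶ E i := fun i => Injective.ι (F i)
  have hι : ∀ i, Mono (ι i) := fun i => (inferInstance : Mono (Injective.ι (F i)))
  have hE : ∀ i, Injective (E i) := fun i => (inferInstance : Injective (Injective.under (F i)))
  let j : ∏ᶜ F ⟶ ∏ᶜ E := Limits.Pi.map ι
  let T : ShortComplex 𝒜 := ShortComplex.mk j (cokernel.π j) (cokernel.condition j)
  have hT : T.ShortExact :=
    { exact := ShortComplex.exact_cokernel j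
      mono_f := (inferInstance : Mono (Limits.Pi.map ι))
      epi_g := (inferInstance : Epi (cokernel.π j)) }
  have : Injective T.X₂ := (inferInstance : Injective (∏ᶜ E))
  let Ti : I → ShortComplex 𝒜 := fun i =>
    ShortComplex.mk (ι i) (cokernel.π (ι i)) (cokernel.condition (ι i))
  have hTi : ∀ i, (Ti i).ShortExact := fun i =>
    { exact := ShortComplex.exact_cokernel (ι i)
      mono_f := hι i
      epi_g := (inferInstance : Epi (cokernel.π (ι i))) }
  have hq : ∀ i, j ≫ Pi.π E i ≫ cokernel.π (ι i) = 0 := by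
    intro i
    rw [← Category.assoc, Limits.Pi.map_π, Category.assoc, cokernel.condition, comp_zero]
  let q : ∀ i, cokernel j ⟶ cokernel (ι i) := fun i =>
    cokernel.desc j (Pi.π E i ≫ cokernel.π (ι i)) (hq i)
  let φ : ∀ i, T ⟶ Ti i := fun i =>
    { τ₁ := Pi.π F i
      τ₂ := Pi.π E i
      τ₃ := q i
      comm₁₂ := by simp [T, Ti, j]
      comm₂₃ := by simp [T, Ti, q] }
  obtain ⟨x₃, hx₃⟩ := Ext.covariant_sequence_exact₁ X hT x (Ext.eq_zero_of_injective _)
    (zero_add 1)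
  obtain ⟨β, rfl⟩ := (Ext.mk₀_bijective _ _).2 x₃
  -- each `β ≫ q i` lifts
  have hlift : ∀ i, ∃ γ : X ⟶ E i, γ ≫ cokernel.π (ι i) = β ≫ q i := by
    intro i
    have h1 : (Ext.mk₀ (β ≫ q i)).comp (hTi i).extClass (zero_add 1) = 0 := by
      have hnat := ShortComplex.ShortExact.extClass_naturality hT (hTi i) (φ i)
      have h2 : (Ext.mk₀ (β ≫ q i)).comp (hTi i).extClass (zero_add 1) =
          (Ext.mk₀ β).comp ((Ext.mk₀ (φ i).τ₃).comp (hTi i).extClass (zero_add 1))
            (zero_add 1) := by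
        rw [← Ext.mk₀_comp_mk₀, Ext.comp_assoc_of_second_deg_zero]
      rw [h2, ← hnat, ← Ext.comp_assoc_of_third_deg_zero, hx₃]
      exact hx i
    obtain ⟨x₂, hx₂⟩ := Ext.covariant_sequence_exact₃ X (hTi i) _ (zero_add 1) h1
    obtain ⟨γ, rfl⟩ := (Ext.mk₀_bijective _ _).2 x₂
    rw [Ext.mk₀_comp_mk₀] at hx₂
    exact ⟨γ, (Ext.mk₀_bijective _ _).1 hx₂⟩
  choose γ hγ using hlift
  have hfin : Pi.lift γ ≫ cokernel.π j = β := by
    rw [← sub_eq_zero]
    apply eq_zero_of_comp_cokernel_desc F E ι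
    intro i
    rw [Preadditive.sub_comp, sub_eq_zero, Category.assoc, cokernel.π_desc,
      Pi.lift_π_assoc]
    exact hγ i
  rw [← hx₃, ← hfin, ← Ext.mk₀_comp_mk₀, Ext.comp_assoc_of_second_deg_zero]
  have := hT.comp_extClass
  rw [this, Ext.comp_zero]

end Groth.Agent.H69.CS
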