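import Groth.Agent.H69.CS.Const

/-!
# Morphisms out of the constant sheaf `ℤ` are compatible families of sections (helper69)
-/

set_option autoImplicit false
universe u
open CategoryTheory Opposite Limits

namespace Groth.Agent.H69.CS

variable {C : Type u} [SmallCategory C] (J : GrothendieckTopology C)

/-- the group `ℤ` in universe `u` -/
abbrev ZZ : AddCommGrpCat.{u} := AddCommGrpCat.of (ULift.{u} ℤ)

/-- the constant section `1` of the constant sheaf `ℤ` -/
noncomputable def one (V : C) : Sec (cst J ZZ.{u}) V := eta J ZZ.{u} V (ULift.up 1)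

variable {J}

lemma res_one {V W : C} (g : W ⟶ V) : res (cst J ZZ.{u}) g (one J V) = one J W :=
  res_eta _ g _

lemma eta_ZZ (V : C) (n : ULift.{u} ℤ) : eta J ZZ.{u} V n = n.down • one J V := by
  have : n = n.down • (ULift.up 1 : ULift.{u} ℤ) := by
    apply ULift.ext
    simp
  conv_lhs => rw [this]
  rw [map_zsmul]
  rfl

variable {F G : Sheaf J AddCommGrpCat.{u}}

/-- the family of sections attached to a morphism `ℤ ⟶ F` -/
noncomputable def evalOne (ψ : cst J ZZ.{u} ⟶ F) (V : C) : Sec F V := app ψ V (one J V)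

lemma evalOne_res (ψ : cst J ZZ.{u} ⟶ F) {V W : C} (g : W ⟶ V) :
    res F g (evalOne ψ V) = evalOne ψ W := by
  rw [evalOne, ← app_res, res_one]
  rfl

lemma evalOne_comp (ψ : cst J ZZ.{u} ⟶ F) (p : F ⟶ G) (V : C) :
    evalOne (ψ ≫ p) V = app p V (evalOne ψ V) := rfl

theorem evalOne_injective (ψ ψ' : cst J ZZ.{u} ⟶ F) (h : ∀ V, evalOne ψ V = evalOne ψ' V) :
    ψ = ψ' := by
  apply Sheaf.hom_ext
  apply sheafify_hom_ext J _ _ F.property
  ext ⟨V⟩ n
  have h1 : ∀ χ : cst J ZZ.{u} ⟶ F,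
      ((toSheafify J ((Functor.const Cᵒᵖ).obj ZZ.{u}) ≫ χ.hom).app (op V)).hom n =
        n.down • evalOne χ V := by
    intro χ
    show app χ V (eta J ZZ.{u} V n) = _
    rw [eta_ZZ, map_zsmul]
    rfl
  show ((toSheafify J ((Functor.const Cᵒᵖ).obj ZZ.{u}) ≫ ψ.hom).app (op V)).hom n =
    ((toSheafify J ((Functor.const Cᵒᵖ).obj ZZ.{u}) ≫ ψ'.hom).app (op V)).hom n
  rw [h1, h1, h]

theorem exists_hom_of_family (s : ∀ V : C, Sec F V)
    (hs : ∀ ⦃V W : C⦄ (g : W ⟶ V), res F g (s V) = s W) :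
    ∃ ψ : cst J ZZ.{u} ⟶ F, ∀ V, evalOne ψ V = s V := by
  let α : (Functor.const Cᵒᵖ).obj ZZ.{u} ⟶ F.obj :=
    { app := fun V => AddCommGrpCat.ofHom
        (((zmultiplesHom (Sec F V.unop)) (s V.unop)).comp
          (AddEquiv.ulift : ULift.{u} ℤ ≃+ ℤ).toAddMonoidHom)
      naturality := by
        intro V W g
        ext n
        have := hs g.unop
        simp only [Functor.const_obj_obj, Functor.const_obj_map, Category.id_comp]
        show _ = res F g.unop ((AddEquiv.ulift n : ℤ) • s V.unop)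
        rw [map_zsmul, this]
        rfl }
  refine ⟨ObjectProperty.homMk (sheafifyLift J α F.property), ?_⟩
  intro V
  have h := toSheafify_sheafifyLift J α F.property
  have h2 := congrArg (fun k => (k.app (op V)).hom (ULift.up 1)) h
  refine Eq.trans ?_ (h2.trans ?_)
  · rfl
  · show (1 : ℤ) • s V = s V
    simp

end Groth.Agent.H69.CS
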