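import Groth.Agent.H69.CS.Global

/-!
# Global sections of constant sheaves lift along surjections of groups (helper69)
-/

set_option autoImplicit false
universe u
open CategoryTheory Opposite Limits

namespace Groth.Agent.H69.CS

variable {C : Type u} [SmallCategory C] {J : GrothendieckTopology C}

section Lift

variable {B D : AddCommGrpCat.{u}} (q : B ⟶ D) (σ : ↑D → ↑B)
  (d : ∀ V : C, Sec (cst J D) V)

/-- arrows over which `t` is the constant section `σ c` where `d` is the constant section `c` -/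
def locSieve (hd : ∀ ⦃V W : C⦄ (g : W ⟶ V), res (cst J D) g (d V) = d W)
    {V : C} (t : Sec (cst J B) V) : Sieve V where
  arrows X k := ∃ c : ↑D, eta J D X c = d X ∧ res (cst J B) k t = eta J B X (σ c)
  downward_closed := by
    rintro X Y k ⟨c, hc1, hc2⟩ h
    refine ⟨c, ?_, ?_⟩
    · rw [← hd h, ← hc1, res_eta]
    · rw [← res_res, hc2, res_eta]

variable (hd : ∀ ⦃V W : C⦄ (g : W ⟶ V), res (cst J D) g (d V) = d W)

lemma locSieve_pullback_le {V W : C} (g : W ⟶ V) (t : Sec (cst J B) V) :
    (locSieve σ d hd t).pullback g ≤ locSieve σ d hd (res (cst J B) g t) := by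
  rintro X k ⟨c, hc1, hc2⟩
  exact ⟨c, hc1, by rw [res_res]; exact hc2⟩

lemma le_locSieve_pullback {V W : C} (g : W ⟶ V) (t : Sec (cst J B) V) :
    locSieve σ d hd (res (cst J B) g t) ≤ (locSieve σ d hd t).pullback g := by
  rintro X k ⟨c, hc1, hc2⟩
  exact ⟨c, hc1, by rw [← res_res]; exact hc2⟩

include hd in
/-- the lifting lemma, on sections -/
theorem exists_lift_sections (hσ : ∀ c, q.hom (σ c) = c) (V : C) :
    ∃ t : Sec (cst J B) V,
      app ((constantSheaf J AddCommGrpCat.{u}).map q) V t = d V ∧ locSieve σ d hd t ∈ J V := by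
  refine exists_of_local (cst J B)
    (fun V t => app ((constantSheaf J AddCommGrpCat.{u}).map q) V t = d V ∧
      locSieve σ d hd t ∈ J V) ?_ ?_ ?_ ?_ V
  · -- hres
    rintro V W g s ⟨h1, h2⟩
    refine ⟨?_, ?_⟩
    · rw [app_res, h1, hd]
    · exact J.superset_covering (locSieve_pullback_le σ d hd g s) (J.pullback_stable g h2)
  · -- huniq
    rintro V s t ⟨-, hs⟩ ⟨-, ht⟩
    refine sec_ext (cst J B) _ (J.intersection_covering hs ht) s t ?_
    rintro X k ⟨⟨c, hc1, hc2⟩, ⟨c', hc1', hc2'⟩⟩
    rcases eta_injective_or D c c' (hc1.trans hc1'.symm) with h | h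
    · rw [hc2, hc2', h]
    · exact sec_subsingleton_of_bot_mem _ h _ _
  · -- hloc
    intro V
    obtain ⟨R, hR, hRc⟩ := eta_locally_surjective D (d V)
    refine ⟨R, hR, ?_⟩
    intro W g hg
    obtain ⟨c, hc⟩ := hRc g hg
    rw [hd] at hc
    refine ⟨eta J B W (σ c), ?_, ?_⟩
    · rw [app_map_eta, hσ, hc]
    · convert J.top_mem W
      ext X k
      simp only [Sieve.top_apply, iff_true]
      exact ⟨c, by rw [← hd k, ← hc, res_eta], by rw [res_eta]⟩
  · -- hlocal
    rintro V s R hR h
    refine ⟨?_, ?_⟩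
    · refine sec_ext (cst J D) R hR _ _ ?_
      intro W g hg
      rw [← app_res, (h g hg).1, hd]
    · refine J.transitive hR _ ?_
      intro W g hg
      exact J.superset_covering (le_locSieve_pullback σ d hd g s) (h g hg).2

end Lift

/-- Morphisms from the constant sheaf `ℤ` lift along surjections of coefficient groups. -/
theorem exists_lift_hom {B D : AddCommGrpCat.{u}} (q : B ⟶ D)
    (hq : Function.Surjective q.hom) (ψ : cst J ZZ.{u} ⟶ cst J D) :
    ∃ ψ' : cst J ZZ.{u} ⟶ cst J B,
      ψ' ≫ (constantSheaf J AddCommGrpCat.{u}).map q = ψ := by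
  classical
  choose σ hσ using hq
  have hd : ∀ ⦃V W : C⦄ (g : W ⟶ V), res (cst J D) g (evalOne ψ V) = evalOne ψ W :=
    fun V W g => evalOne_res ψ g
  have hex := exists_lift_sections q σ (fun V => evalOne ψ V) hd hσ
  choose t ht1 ht2 using hex
  have hcompat : ∀ ⦃V W : C⦄ (g : W ⟶ V), res (cst J B) g (t V) = t W := by
    intro V W g
    -- uniqueness
    refine sec_ext (cst J B) _ (J.intersection_covering
      (J.superset_covering (locSieve_pullback_le σ _ hd g (t V)) (J.pullback_stable g (ht2 V)))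
      (ht2 W)) _ _ ?_
    rintro X k ⟨⟨c, hc1, hc2⟩, ⟨c', hc1', hc2'⟩⟩
    rcases eta_injective_or D c c' (hc1.trans hc1'.symm) with h | h
    · rw [hc2, hc2', h]
    · exact sec_subsingleton_of_bot_mem _ h _ _
  obtain ⟨ψ', hψ'⟩ := exists_hom_of_family (F := cst J B) t hcompat
  refine ⟨ψ', evalOne_injective _ _ ?_⟩
  intro V
  rw [evalOne_comp, hψ', ht1]

end Groth.Agent.H69.CS
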