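import Groth.Agent.H69.CS.Vanish
import Mathlib.Topology.Separation.DisjointCover
import Mathlib.CategoryTheory.Sites.Spaces
import Groth.Prelude.Def_CohTop

/-!
# Global sections are exact on profinite spaces (helper69)
-/

set_option autoImplicit false
universe u
open CategoryTheory Opposite Limits TopologicalSpace

namespace Groth.Agent.H69.CS

section Profinite

variable {X : TopCat.{u}}

local notation "JX" => Opens.grothendieckTopology X

lemma bot_mem_bot : (⊥ : Sieve (⊥ : Opens X)) ∈ (Opens.grothendieckTopology X) (⊥ : Opens X) := by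
  intro x hx
  exact hx.elim

variable [CompactSpace X] [T2Space X] [TotallyDisconnectedSpace X]

/-- global sections lift along epimorphisms on a profinite space -/
theorem exists_section_lift_profinite {G H : Sheaf (Opens.grothendieckTopology X) AddCommGrpCat.{u}}
    (q : G ⟶ H) [Epi q] (h : Sec H (⊤ : Opens X)) :
    ∃ s : Sec G (⊤ : Opens X), app q ⊤ s = h := by
  classical
  obtain ⟨R, hR, hRc⟩ := locally_surjective_of_epi q h
  -- the open cover by members of R
  let ι := {V : Opens X // R (homOfLE (le_top : V ≤ ⊤))}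
  let U : ι → Opens X := fun V => V.1
  have hU : IsOpenCover U := by
    rw [IsOpenCover, eq_top_iff]
    intro x _
    obtain ⟨V, f, hf, hxV⟩ := hR x trivial
    rw [Opens.mem_iSup]
    exact ⟨⟨V, by convert hf using 1; exact Subsingleton.elim _ _⟩, hxV⟩
  obtain ⟨n, W, hW₁, hW₂, hW₃⟩ := hU.exists_finite_nonempty_disjoint_clopen_cover
  -- choose for each j a member of R containing W j and a lift there
  have hch : ∀ j : Fin n, ∃ (V : Opens X) (hV : (W j : Set X) ⊆ V) (s : Sec G V),
      app q V s = res H (homOfLE (le_top : V ≤ ⊤)) h := by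
    intro j
    obtain ⟨⟨V, hVR⟩, hjV⟩ := (hW₁ j).2
    obtain ⟨s, hs⟩ := hRc _ hVR
    exact ⟨V, hjV, s, hs⟩
  choose V hV s hs using hch
  -- the sieve of opens contained in some W j
  let S : Sieve (⊤ : Opens X) :=
    { arrows := fun Y _ => ∃ j : Fin n, (Y : Set X) ⊆ W j
      downward_closed := by
        rintro Y Z f ⟨j, hj⟩ g
        exact ⟨j, fun x hx => hj (leOfHom g hx)⟩ }
  have hS : S ∈ (Opens.grothendieckTopology X) ⊤ := by
    intro x _
    obtain ⟨j, hj⟩ := Set.mem_iUnion.1 (hW₂ (Set.mem_univ x))
    exact ⟨(W j).toOpens, homOfLE le_top, ⟨j, subset_rfl⟩, hj⟩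
  -- the family of sections
  have hle : ∀ {Y : Opens X} {g : Y ⟶ ⊤} (hg : S g), Y ≤ V hg.choose :=
    fun {Y g} hg => hg.choose_spec.trans (hV _)
  obtain ⟨t, ht⟩ := sec_glue G S hS (fun Y g hg => res G (homOfLE (hle hg)) (s hg.choose)) (by
    intro Y Z g k hg
    by_cases hZ : Z = ⊥
    · subst hZ
      exact sec_subsingleton_of_bot_mem G bot_mem_bot _ _
    · have hne : (Z : Set X).Nonempty := by
        rw [Set.nonempty_iff_ne_empty]
        intro he
        exact hZ (SetLike.coe_injective (by simpa using he))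
      obtain ⟨x, hx⟩ := hne
      have hg' : S (k ≫ g) := S.downward_closed hg k
      have hjj : hg'.choose = hg.choose := by
        by_contra hne
        have hd := hW₃ hne
        have h1 : x ∈ (W hg'.choose : Set X) := hg'.choose_spec hx
        have h2 : x ∈ (W hg.choose : Set X) := hg.choose_spec (leOfHom k hx)
        have h3 : (W hg'.choose ⊓ W hg.choose : Clopens X) = ⊥ := disjoint_iff.1 hd
        have h4 : x ∈ ((W hg'.choose ⊓ W hg.choose : Clopens X) : Set X) := ⟨h1, h2⟩
        rw [h3] at h4
        exact h4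
      rw [res_res]
      have key : ∀ (j j' : Fin n) (hjj' : j = j') (a : Z ≤ V j) (b : Z ≤ V j'),
          res G (homOfLE a) (s j) = res G (homOfLE b) (s j') := by
        intro j j' hjj' a b
        subst hjj'
        rfl
      exact key _ _ hjj _ _)
  refine ⟨t, ?_⟩
  refine sec_ext H S hS _ _ ?_
  intro Y g hg
  rw [← app_res, ht g hg, app_res, hs, res_res]
  rfl

/-- morphisms from the constant sheaf `ℤ` lift along epimorphisms on a profinite space -/
theorem exists_hom_lift_profinite {G H : Sheaf (Opens.grothendieckTopology X) AddCommGrpCat.{u}}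
    (q : G ⟶ H) [Epi q] (ψ : cst (Opens.grothendieckTopology X) ZZ.{u} ⟶ H) :
    ∃ ψ' : cst (Opens.grothendieckTopology X) ZZ.{u} ⟶ G, ψ' ≫ q = ψ := by
  obtain ⟨s, hs⟩ := exists_section_lift_profinite q (evalOne ψ ⊤)
  obtain ⟨ψ', hψ'⟩ := exists_hom_of_family (F := G)
    (fun V => res G (homOfLE (le_top : V ≤ ⊤)) s) (by
      intro V W g
      rw [res_res]
      rfl)
  refine ⟨ψ', evalOne_injective _ _ ?_⟩
  intro V
  rw [evalOne_comp, hψ', app_res, hs, evalOne_res]

/-- higher cohomology vanishes on a profinite space -/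
theorem H_succ_eq_zero_profinite (F : Sheaf (Opens.grothendieckTopology X) AddCommGrpCat.{u})
    (p : ℕ) (x : Sheaf.H.{u} F (p + 1)) : x = 0 :=
  ext_succ_eq_zero_of_lift (cst (Opens.grothendieckTopology X) ZZ.{u})
    (fun q hq ψ => by
      have := hq
      exact exists_hom_lift_profinite q ψ) p F x

end Profinite

end Groth.Agent.H69.CS
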