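import Mathlib.CategoryTheory.Sites.ConstantSheaf
import Mathlib.CategoryTheory.Sites.LocallyBijective
import Mathlib.CategoryTheory.Sites.EpiMono
import Mathlib.CategoryTheory.Sites.Whiskering
import Mathlib.Algebra.Category.Grp.Abelian
import Mathlib.CategoryTheory.Sites.Abelian
import Mathlib.CategoryTheory.Sites.Limits
import Groth.Prelude.Def_CohSite

/-!
# Element-level API for abelian sheaves on a small site (helper69)

Sections, restriction, separatedness, gluing, and a "unique local construction" principle.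
-/

set_option autoImplicit false
universe u
open CategoryTheory Opposite Limits

namespace Groth.Agent.H69.CS

variable {C : Type u} [SmallCategory C] {J : GrothendieckTopology C}

/-- sections of an abelian sheaf over `V` -/
abbrev Sec (F : Sheaf J AddCommGrpCat.{u}) (V : C) : Type u := ↑(F.obj.obj (op V))

/-- restriction of sections, as an additive map -/
def res (F : Sheaf J AddCommGrpCat.{u}) {V W : C} (g : W ⟶ V) : Sec F V →+ Sec F W :=
  (F.obj.map g.op).hom

variable (F : Sheaf J AddCommGrpCat.{u})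

@[simp] lemma res_id (V : C) (s : Sec F V) : res F (𝟙 V) s = s := by
  simp [res]

lemma res_res {V W X : C} (g : W ⟶ V) (h : X ⟶ W) (s : Sec F V) :
    res F h (res F g s) = res F (h ≫ g) s := by
  simp [res, op_comp, F.obj.map_comp]

/-- a morphism of sheaves on sections, as an additive map -/
def app {F G : Sheaf J AddCommGrpCat.{u}} (p : F ⟶ G) (V : C) : Sec F V →+ Sec G V :=
  (p.hom.app (op V)).hom

lemma app_res {F G : Sheaf J AddCommGrpCat.{u}} (p : F ⟶ G) {V W : C} (g : W ⟶ V) (s : Sec F V) :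
    app p W (res F g s) = res G g (app p V s) := by
  have := p.hom.naturality g.op
  exact congrArg (fun k => k.hom s) this

lemma app_comp {F G H : Sheaf J AddCommGrpCat.{u}} (p : F ⟶ G) (q : G ⟶ H) (V : C) (s : Sec F V) :
    app (p ≫ q) V s = app q V (app p V s) := rfl

/-- separatedness -/
theorem sec_ext {V : C} (R : Sieve V) (hR : R ∈ J V) (s t : Sec F V)
    (h : ∀ ⦃W : C⦄ (g : W ⟶ V), R g → res F g s = res F g t) : s = t := by
  have hsep := Presheaf.IsSheaf.isSeparated (J := J) F.property
  exact hsep V R hR s t (fun W g hg => h g hg)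

theorem sec_subsingleton_of_bot_mem {V : C} (h : (⊥ : Sieve V) ∈ J V) (s t : Sec F V) : s = t :=
  sec_ext F ⊥ h s t (fun _ _ hg => hg.elim)

/-- gluing -/
theorem sec_glue {V : C} (R : Sieve V) (hR : R ∈ J V)
    (x : ∀ ⦃W : C⦄ (g : W ⟶ V), R g → Sec F W)
    (hx : ∀ ⦃W X : C⦄ (g : W ⟶ V) (h : X ⟶ W) (hg : R g),
      x (h ≫ g) (R.downward_closed hg h) = res F h (x g hg)) :
    ∃ s : Sec F V, ∀ ⦃W : C⦄ (g : W ⟶ V) (hg : R g), res F g s = x g hg := by
  have hsh : Presieve.IsSheaf J (F.obj ⋙ forget AddCommGrpCat.{u}) :=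
    (isSheaf_iff_isSheaf_of_type J _).1
      ((Presheaf.isSheaf_iff_isSheaf_forget J F.obj (forget AddCommGrpCat.{u})).1 F.property)
  have hfor := hsh R hR
  let fam : Presieve.FamilyOfElements (F.obj ⋙ forget AddCommGrpCat.{u}) R.arrows :=
    fun W g hg => x g hg
  have hcomp : fam.Compatible := by
    rw [Presieve.compatible_iff_sieveCompatible]
    intro W X g h hg
    exact hx g h hg
  refine ⟨hfor.amalgamate fam hcomp, ?_⟩
  intro W g hg
  exact hfor.valid_glue hcomp g hg

/-- Unique local constructions glue to sections over every object. -/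
theorem exists_of_local (P : ∀ V : C, Sec F V → Prop)
    (hres : ∀ ⦃V W : C⦄ (g : W ⟶ V) (s : Sec F V), P V s → P W (res F g s))
    (huniq : ∀ (V : C) (s t : Sec F V), P V s → P V t → s = t)
    (hloc : ∀ V : C, ∃ R : Sieve V, R ∈ J V ∧ ∀ ⦃W : C⦄ (g : W ⟶ V), R g → ∃ s, P W s)
    (hlocal : ∀ (V : C) (s : Sec F V) (R : Sieve V), R ∈ J V →
      (∀ ⦃W : C⦄ (g : W ⟶ V), R g → P W (res F g s)) → P V s) (V : C) :
    ∃ s : Sec F V, P V s := by
  obtain ⟨R, hR, hex⟩ := hloc V
  choose x hx using hex
  obtain ⟨s, hs⟩ := sec_glue F R hR x (by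
    intro W X g h hg
    exact huniq _ _ _ (hx _ _) (hres h _ (hx g hg)))
  refine ⟨s, hlocal V s R hR ?_⟩
  intro W g hg
  rw [hs g hg]
  exact hx g hg

end Groth.Agent.H69.CS
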