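import Groth.Agent.H69.CS.Divide2

/-!
# Vanishing of higher Ext out of an object with the lifting property along epimorphisms (helper69)
-/

set_option autoImplicit false
universe u
open CategoryTheory Opposite Limits

namespace Groth.Agent.H69.CS

open Abelian

/-- If every morphism from `X` lifts along every epimorphism, then `Ext^{p+1}(X, F) = 0`. -/
theorem ext_succ_eq_zero_of_lift {𝒜 : Type*} [Category 𝒜] [Abelian 𝒜] [HasExt 𝒜]
    [EnoughInjectives 𝒜] (X : 𝒜)
    (hlift : ∀ {G H : 𝒜} (q : G ⟶ H), Epi q → ∀ ψ : X ⟶ H, ∃ ψ' : X ⟶ G, ψ' ≫ q = ψ) :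
    ∀ (p : ℕ) (F : 𝒜) (x : Ext X F (p + 1)), x = 0 := by
  intro p
  induction p with
  | zero =>
    intro F x
    let ι := Injective.ι F
    let T : ShortComplex 𝒜 := ShortComplex.mk ι (cokernel.π ι) (cokernel.condition ι)
    have hT : T.ShortExact :=
      { exact := ShortComplex.exact_cokernel ι
        mono_f := (inferInstance : Mono ι)
        epi_g := (inferInstance : Epi (cokernel.π ι)) }
    have : Injective T.X₂ := (inferInstance : Injective (Injective.under F))
    exact ext_one_eq_zero_of_lift hT X (fun ψ => hlift T.g hT.epi_g ψ) x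
      (Ext.eq_zero_of_injective _)
  | succ p ih =>
    intro F x
    let ι := Injective.ι F
    let T : ShortComplex 𝒜 := ShortComplex.mk ι (cokernel.π ι) (cokernel.condition ι)
    have hT : T.ShortExact :=
      { exact := ShortComplex.exact_cokernel ι
        mono_f := (inferInstance : Mono ι)
        epi_g := (inferInstance : Epi (cokernel.π ι)) }
    have : Injective T.X₂ := (inferInstance : Injective (Injective.under F))
    obtain ⟨x₃, hx₃⟩ := Ext.covariant_sequence_exact₁ X hT (n₁ := p + 1 + 1) x
      (Ext.eq_zero_of_injective _) (n₀ := p + 1) rfl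
    rw [← hx₃, ih T.X₃ x₃, Ext.zero_comp]

end Groth.Agent.H69.CS
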